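import Cfsg.Agent.Lib.PGroups.ClassCount
import Cfsg.Agent.Lib.SolvStruct.WielandtHall
import Cfsg.Agent.Lib.Chars.Linear
import Cfsg.Agent.Lib.Chars.Irr
import Cfsg.Agent.Lib.Chars.Integral

/-!
# Counting tools for classes of π-elements

π-parts, orbit counts for a subgroup acting on another one, classes of a nilpotent Hall subgroup.
-/

set_option autoImplicit false
set_option linter.unusedSectionVars false
set_option linter.style.haveILetI false

universe u

namespace CfsgLib.PiClasses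

open Subgroup CfsgLib.PGroups
open scoped Pointwise

variable {σ : Finset ℕ}

theorem factorization_piPart (hσ : ∀ q ∈ σ, q.Prime) (n s : ℕ) :
    (piPart σ n).factorization s = if s ∈ σ then n.factorization s else 0 := by
  classical
  rw [piPart, Nat.factorization_prod (fun q hq => pow_ne_zero _ (hσ q hq).ne_zero),
    Finsupp.finset_sum_apply]
  refine (Finset.sum_congr rfl fun q hq => ?_).trans
    (Finset.sum_ite_eq σ s fun q => n.factorization q)
  rw [(hσ q hq).factorization_pow, Finsupp.single_apply]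
  rcases eq_or_ne q s with h | h
  · rw [if_pos h, if_pos h.symm]
  · rw [if_neg h, if_neg h.symm]

theorem piPart_pos (hσ : ∀ q ∈ σ, q.Prime) (n : ℕ) : 0 < piPart σ n :=
  Finset.prod_pos fun q hq => pow_pos (hσ q hq).pos _

theorem piPart_dvd (hσ : ∀ q ∈ σ, q.Prime) {n : ℕ} (hn : n ≠ 0) : piPart σ n ∣ n := by
  refine (Nat.factorization_le_iff_dvd (piPart_pos hσ n).ne' hn).mp fun s => ?_
  rw [factorization_piPart hσ]
  split_ifs <;> simp

theorem piPart_dvd_piPart (hσ : ∀ q ∈ σ, q.Prime) {a b : ℕ} (hb : b ≠ 0) (hab : a ∣ b) :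
    piPart σ a ∣ piPart σ b := by
  refine Finset.prod_dvd_prod_of_dvd _ _ fun q hq => pow_dvd_pow q ?_
  exact (Nat.factorization_le_iff_dvd (ne_zero_of_dvd_ne_zero hb hab) hb).mpr hab q

theorem mem_of_dvd_piPart (hσ : ∀ q ∈ σ, q.Prime) {n s : ℕ} (hs : s.Prime)
    (h : s ∣ piPart σ n) : s ∈ σ := by
  by_contra hsσ
  have := (hs.dvd_iff_one_le_factorization (piPart_pos hσ n).ne').mp h
  rw [factorization_piPart hσ, if_neg hsσ] at this
  omega

theorem piPart_eq_of (hσ : ∀ q ∈ σ, q.Prime) {n d : ℕ} (hn : n ≠ 0) (hdn : d ∣ n)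
    (h1 : ∀ q : ℕ, q.Prime → q ∣ d → q ∈ σ) (h2 : ∀ q ∈ σ, ¬ q ∣ n / d) :
    piPart σ n = d := by
  refine Nat.eq_of_factorization_eq (piPart_pos hσ n).ne' (ne_zero_of_dvd_ne_zero hn hdn)
    fun s => ?_
  rw [factorization_piPart hσ]
  split_ifs with hs
  · have h := Nat.factorization_eq_zero_of_not_dvd (h2 s hs)
    rw [Nat.factorization_div hdn] at h
    have hle := (Nat.factorization_le_iff_dvd (ne_zero_of_dvd_ne_zero hn hdn) hn).mpr hdn s
    simp only [Finsupp.coe_tsub, Pi.sub_apply] at h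
    omega
  · by_cases hsp : s.Prime
    · exact (Nat.factorization_eq_zero_of_not_dvd fun hd => hs (h1 s hsp hd)).symm
    · exact (Nat.factorization_eq_zero_of_not_prime _ hsp).symm

/-- A proper π-part loses a factor at least `p`. -/
theorem mul_piPart_le (hσ : ∀ q ∈ σ, q.Prime) {p a b : ℕ} (hp : ∀ q ∈ σ, p ≤ q) (hb : b ≠ 0)
    (hab : a ∣ b) (hne : piPart σ a ≠ piPart σ b) : p * piPart σ a ≤ piPart σ b := by
  obtain ⟨t, ht⟩ := piPart_dvd_piPart hσ hb hab
  rw [ht, mul_comm p]
  refine Nat.mul_le_mul_left _ ?_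
  have htb : t ∣ piPart σ b := Dvd.intro_left _ ht.symm
  have ht0 : 0 < t := Nat.pos_of_dvd_of_pos htb (piPart_pos hσ b)
  have ht1 : t ≠ 1 := fun h => hne (by rw [ht, h, mul_one])
  obtain ⟨q, hq, hqt⟩ := Nat.exists_prime_and_dvd ht1
  exact (hp q (mem_of_dvd_piPart hσ hq (hqt.trans htb))).trans (Nat.le_of_dvd ht0 hqt)

theorem piPart_eq_mul_erase {r : ℕ} (hr : r ∈ σ) (n : ℕ) :
    piPart σ n = r ^ n.factorization r * piPart (σ.erase r) n :=
  (Finset.mul_prod_erase σ _ hr).symm

section Hall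

variable {G : Type u} [Group G] [Finite G]

theorem coprime_index_of_card_eq (hσ : ∀ q ∈ σ, q.Prime) {H : Subgroup G}
    (hH : Nat.card H = piPart σ (Nat.card G)) : (Nat.card H).Coprime H.index := by
  refine Nat.coprime_of_dvd fun q hq h1 h2 => ?_
  have hqσ := mem_of_dvd_piPart hσ hq (hH ▸ h1)
  have h := congrArg (fun m => m.factorization q) H.card_mul_index
  simp only [Nat.factorization_mul Nat.card_pos.ne' Subgroup.FiniteIndex.index_ne_zero,
    Finsupp.coe_add, Pi.add_apply] at h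
  rw [hH, factorization_piPart hσ, if_pos hqσ] at h
  have := (hq.dvd_iff_one_le_factorization Subgroup.FiniteIndex.index_ne_zero).mp h2
  omega

theorem dvd_hall (hσ : ∀ q ∈ σ, q.Prime) {H : Subgroup G}
    (hH : Nat.card H = piPart σ (Nat.card G)) {q : ℕ} (hq : q ∈ σ) (hqG : q ∣ Nat.card G) :
    q ∣ Nat.card H := by
  have h1 := ((hσ q hq).dvd_iff_one_le_factorization Nat.card_pos.ne').mp hqG
  refine ((hσ q hq).dvd_iff_one_le_factorization Nat.card_pos.ne').mpr ?_
  rw [hH, factorization_piPart hσ, if_pos hq]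
  exact h1

theorem piPart_self_of_hall (hσ : ∀ q ∈ σ, q.Prime) {H : Subgroup G}
    (hH : Nat.card H = piPart σ (Nat.card G)) {X : Subgroup G} (hHX : H ≤ X) :
    piPart σ (Nat.card X) = piPart σ (Nat.card G) := by
  refine Nat.dvd_antisymm
    (piPart_dvd_piPart hσ Nat.card_pos.ne' (Subgroup.card_subgroup_dvd_card _)) ?_
  have h := piPart_dvd_piPart hσ Nat.card_pos.ne' (Subgroup.card_dvd_of_le hHX)
  have hi : piPart σ (Nat.card H) = Nat.card H :=
    piPart_eq_of hσ Nat.card_pos.ne' dvd_rfl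
      (fun q hq hd => mem_of_dvd_piPart hσ hq (hH ▸ hd))
      (fun q hq hd => (hσ q hq).ne_one (Nat.dvd_one.mp (by rwa [Nat.div_self Nat.card_pos] at hd)))
  rwa [hi, hH] at h

/-- Every subgroup on the primes of `σ` is conjugate into a nilpotent Hall subgroup. -/
theorem exists_conj_le (hσ : ∀ q ∈ σ, q.Prime) {H K : Subgroup G} (hn : Group.IsNilpotent H)
    (hH : Nat.card H = piPart σ (Nat.card G))
    (hK : ∀ q : ℕ, q.Prime → q ∣ Nat.card K → q ∈ σ) : ∃ x : G, K ≤ MulAut.conj x • H :=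
  CfsgLib.SolvStruct.exists_conj_le_nilpotent_hall _ H K (Nat.lt_succ_self _) hn
    (coprime_index_of_card_eq hσ hH)
    fun q hq hd => dvd_hall hσ hH (hK q hq hd) (hd.trans (Subgroup.card_subgroup_dvd_card K))

theorem exists_conj_eq (hσ : ∀ q ∈ σ, q.Prime) {H K : Subgroup G} (hn : Group.IsNilpotent H)
    (hH : Nat.card H = piPart σ (Nat.card G))
    (hK : Nat.card K = piPart σ (Nat.card G)) : ∃ x : G, K = MulAut.conj x • H := by
  obtain ⟨x, hx⟩ := exists_conj_le hσ hn hH
    (fun q hq hd => mem_of_dvd_piPart hσ hq (hK ▸ hd) : ∀ q : ℕ, q.Prime → q ∣ Nat.card K → q ∈ σ)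
  exact ⟨x, Subgroup.eq_of_le_of_card_ge hx
    (by rw [CfsgLib.Coprime.card_conj_smul, hH, hK])⟩

/-- The class of an element of a Hall subgroup. -/
noncomputable def hallClass (hσ : ∀ q ∈ σ, q.Prime) {H : Subgroup G}
    (hH : Nat.card H = piPart σ (Nat.card G)) (x : H) : piClasses σ G :=
  ⟨ConjClasses.mk (x : G), fun y hy q hq hqy => by
    obtain ⟨g, hg⟩ := isConj_iff.mp (ConjClasses.mk_eq_mk_iff_isConj.mp
      (ConjClasses.mem_carrier_iff_mk_eq.mp hy).symm)
    rw [← hg, show g * (x : G) * g⁻¹ = MulAut.conj g x from rfl, MulEquiv.orderOf_eq,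
      Subgroup.orderOf_coe] at hqy
    exact mem_of_dvd_piPart hσ hq (hH ▸ hqy.trans (orderOf_dvd_natCard x))⟩

theorem hallClass_eq_iff (hσ : ∀ q ∈ σ, q.Prime) {H : Subgroup G}
    (hH : Nat.card H = piPart σ (Nat.card G)) {x y : H} :
    hallClass hσ hH x = hallClass hσ hH y ↔ IsConj (x : G) (y : G) :=
  Subtype.ext_iff.trans ConjClasses.mk_eq_mk_iff_isConj

theorem hallClass_surjective (hσ : ∀ q ∈ σ, q.Prime) {H : Subgroup G} (hn : Group.IsNilpotent H)
    (hH : Nat.card H = piPart σ (Nat.card G)) : Function.Surjective (hallClass hσ hH) := by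
  rintro ⟨c, hc⟩
  induction c using Quotient.inductionOn with
  | _ g =>
    obtain ⟨x, hx⟩ := exists_conj_le hσ hn hH (K := zpowers g) fun q hq hd =>
      hc g (ConjClasses.mem_carrier_iff_mk_eq.mpr rfl) q hq (by rwa [Nat.card_zpowers] at hd)
    have h := hx (mem_zpowers g)
    rw [CfsgLib.Coprime.mem_conj_smul] at h
    refine ⟨⟨_, h⟩, Subtype.ext ?_⟩
    exact ConjClasses.mk_eq_mk_iff_isConj.mpr
      (isConj_iff.mpr ⟨x, by group⟩)

theorem card_piClasses_le_conjClasses_hall (hσ : ∀ q ∈ σ, q.Prime) {H : Subgroup G}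
    (hn : Group.IsNilpotent H) (hH : Nat.card H = piPart σ (Nat.card G)) :
    Nat.card (piClasses σ G) ≤ Nat.card (ConjClasses H) := by
  refine Nat.card_le_card_of_surjective (Quotient.lift (hallClass hσ hH) fun a b hab =>
    (hallClass_eq_iff hσ hH).mpr (H.subtype.map_isConj hab)) ?_
  intro c
  obtain ⟨x, hx⟩ := hallClass_surjective hσ hn hH c
  exact ⟨ConjClasses.mk x, hx⟩

theorem card_piClasses_congr {A B : Type u} [Group A] [Finite A] [Group B] [Finite B]
    (e : A ≃* B) : Nat.card (piClasses σ A) = Nat.card (piClasses σ B) := by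
  have key : ∀ {A B : Type u} [Group A] [Group B] [Finite B] (e : A ≃* B),
      Nat.card (piClasses σ A) ≤ Nat.card (piClasses σ B) := by
    intro A B _ _ _ e
    refine Nat.card_le_card_of_injective
      (fun c => (⟨ConjClasses.map e.toMonoidHom c.1, fun y hy q hq hqy => ?_⟩ : piClasses σ B)) ?_
    · refine c.2 (e.symm y) ?_ q hq (by rwa [MulEquiv.orderOf_eq])
      obtain ⟨a, ha⟩ := ConjClasses.mk_surjective c.1
      rw [ConjClasses.mem_carrier_iff_mk_eq] at hy ⊢
      rw [← ha] at hy ⊢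
      change _ = ConjClasses.mk (e a) at hy
      refine ConjClasses.mk_eq_mk_iff_isConj.mpr ?_
      simpa using e.symm.toMonoidHom.map_isConj (ConjClasses.mk_eq_mk_iff_isConj.mp hy)
    · intro c c' h
      obtain ⟨a, ha⟩ := ConjClasses.mk_surjective c.1
      obtain ⟨a', ha'⟩ := ConjClasses.mk_surjective c'.1
      have h' := congrArg Subtype.val h
      simp only [← ha, ← ha'] at h'
      refine Subtype.ext ?_
      rw [← ha, ← ha']
      refine ConjClasses.mk_eq_mk_iff_isConj.mpr ?_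
      simpa using e.symm.toMonoidHom.map_isConj (ConjClasses.mk_eq_mk_iff_isConj.mp h')
  exact le_antisymm (key e) (key e.symm)

end Hall

section Orbit

variable {G : Type u} [Group G] [Finite G]

/-- Orbit counting: a map constant on the orbits of `A` has big fibres outside fixed points. -/
theorem mul_card_le_fixedPoints {A α β : Type*} [Group A] [Finite A] [MulAction A α] [Finite α]
    {f : α → β} (hf : Function.Surjective f) (hinv : ∀ (a : A) (x : α), f (a • x) = f x) {d : ℕ}
    (hd1 : 1 ≤ d) (hd : ∀ q : ℕ, q.Prime → q ∣ Nat.card A → d ≤ q) :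
    d * Nat.card β ≤ Nat.card α + (d - 1) * Nat.card (MulAction.fixedPoints A α) := by
  refine mul_card_le_of_surjective hf (fun x => x ∈ MulAction.fixedPoints A α) hd1 fun x hx => ?_
  have h1 : Nat.card (MulAction.orbit A x) ≤ Nat.card {y // f y = f x} := by
    refine Nat.card_le_card_of_injective (fun y => ⟨y.1, ?_⟩) fun y y' h =>
      Subtype.ext (by simpa using congrArg Subtype.val h)
    obtain ⟨a, ha⟩ := y.2
    rw [← ha, hinv]
  refine le_trans ?_ h1
  have hdvd : Nat.card (MulAction.orbit A x) ∣ Nat.card A := by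
    rw [Nat.card_congr (MulAction.orbitEquivQuotientStabilizer A x)]
    exact Subgroup.card_quotient_dvd_card _
  have hne : Nat.card (MulAction.orbit A x) ≠ 1 := fun h => hx fun a => by
    haveI := (Nat.card_eq_one_iff_unique.mp h).1
    exact congrArg Subtype.val (Subsingleton.elim (⟨a • x, MulAction.mem_orbit x a⟩ :
      MulAction.orbit A x) ⟨x, MulAction.mem_orbit_self x⟩)
  obtain ⟨q, hq, hqd⟩ := Nat.exists_prime_and_dvd hne
  haveI : Nonempty (MulAction.orbit A x) := ⟨⟨x, MulAction.mem_orbit_self x⟩⟩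
  exact (hd q hq (hqd.trans hdvd)).trans (Nat.le_of_dvd Nat.card_pos hqd)

/-- `A` acts on `H` by conjugation. -/
noncomputable abbrev conjAction {H A : Subgroup G} (hA : A ≤ normalizer (H : Set G)) :
    MulAction A H :=
  MulAction.compHom H ((Subgroup.normalizerMonoidHom H).comp (Subgroup.inclusion hA))

theorem coe_conjAction {H A : Subgroup G} (hA : A ≤ normalizer (H : Set G)) (a : A) (x : H) :
    letI := conjAction hA
    ((a • x : H) : G) = a * x * (a : G)⁻¹ := rfl

theorem card_fixed {H A : Subgroup G} (hA : A ≤ normalizer (H : Set G)) :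
    letI := conjAction hA
    Nat.card (MulAction.fixedPoints A H) = Nat.card (H ⊓ centralizer (A : Set G) : Subgroup G) := by
  letI := conjAction hA
  refine Nat.card_congr ⟨fun x => ⟨(x.1 : G), x.1.2, ?_⟩, fun x => ⟨⟨x.1, x.2.1⟩, ?_⟩,
    fun _ => rfl, fun _ => rfl⟩
  · refine mem_centralizer_iff.mpr fun a ha => mul_inv_eq_iff_eq_mul.mp ?_
    exact congrArg Subtype.val (x.2 ⟨a, ha⟩)
  · intro a
    exact Subtype.ext (mul_inv_eq_iff_eq_mul.mpr (mem_centralizer_iff.mp x.2.2 a a.2))

/-- Classes seen on a subgroup `H` normalised by `A`. -/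
theorem mul_card_le_conj {H A : Subgroup G} (hA : A ≤ normalizer (H : Set G)) {β : Type*}
    {f : H → β} (hf : Function.Surjective f)
    (hinv : ∀ x y : H, ∀ a ∈ A, a * (x : G) * a⁻¹ = y → f x = f y) {d : ℕ} (hd1 : 1 ≤ d)
    (hd : ∀ q : ℕ, q.Prime → q ∣ Nat.card A → d ≤ q) :
    d * Nat.card β ≤
      Nat.card H + (d - 1) * Nat.card (H ⊓ centralizer (A : Set G) : Subgroup G) := by
  letI := conjAction hA
  rw [← card_fixed hA]
  exact mul_card_le_fixedPoints (A := A) hf (fun (a : A) (x : H) => (hinv x (a • x) a a.2 rfl).symm) hd1 hd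

/-- Fixed points of a `r`-group on a group of coprime order have index at least `r + 1`. -/
theorem succ_mul_card_fixed_le {r : ℕ} [hr : Fact r.Prime] {H A : Subgroup G}
    (hA : A ≤ normalizer (H : Set G)) (hAr : IsPGroup r A) (hH : ¬ r ∣ Nat.card H)
    (hnc : ¬ H ≤ centralizer (A : Set G)) :
    (r + 1) * Nat.card (H ⊓ centralizer (A : Set G) : Subgroup G) ≤ Nat.card H := by
  letI := conjAction hA
  have hmod := hAr.card_modEq_card_fixedPoints H
  rw [card_fixed hA] at hmod
  set F := H ⊓ centralizer (A : Set G) with hF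
  obtain ⟨t, ht⟩ := Subgroup.card_dvd_of_le (inf_le_left : F ≤ H)
  rw [ht, mul_comm]
  refine Nat.mul_le_mul_left _ ?_
  have ht0 : 1 ≤ t := Nat.pos_of_ne_zero fun h => Nat.card_pos.ne' (by rw [ht, h, mul_zero])
  have ht1 : t ≠ 1 := fun h => hnc (by
    have : F = H := Subgroup.eq_of_le_of_card_ge inf_le_left (by rw [ht, h, mul_one])
    exact this ▸ inf_le_right)
  have h : r ∣ Nat.card F * t - Nat.card F := by
    rw [← ht]
    exact (Nat.modEq_iff_dvd' (Subgroup.card_le_of_le inf_le_left)).mp hmod.symm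
  rw [show Nat.card F * t - Nat.card F = Nat.card F * (t - 1) by
    rw [Nat.mul_sub, mul_one]] at h
  have hdvd : r ∣ t - 1 :=
    (hr.out.dvd_mul.mp h).resolve_left fun hd => hH (ht ▸ hd.mul_right t)
  have := Nat.le_of_dvd (by omega) hdvd
  omega

/-- A non-abelian group with all prime divisors at least `p` has few classes. -/
theorem cube_mul_card_conjClasses_le {H : Type u} [Group H] [Finite H] {p : ℕ} (hp : 1 ≤ p)
    (hmin : ∀ q : ℕ, q.Prime → q ∣ Nat.card H → p ≤ q) (hna : ¬ IsMulCommutative H) :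
    p ^ 3 * Nat.card (ConjClasses H) ≤ (p ^ 2 + p - 1) * Nat.card H := by
  have h := mul_card_le_conj (H := (⊤ : Subgroup H)) (A := (⊤ : Subgroup H))
    Subgroup.le_normalizer (f := fun x : (⊤ : Subgroup H) => ConjClasses.mk (x : H))
    (fun c => (ConjClasses.mk_surjective c).elim fun a ha => ⟨⟨a, mem_top a⟩, ha⟩)
    (fun x y a _ hxy => ConjClasses.mk_eq_mk_iff_isConj.mpr (isConj_iff.mpr ⟨a, hxy⟩))
    hp (by rw [Subgroup.card_top]; exact hmin)
  rw [top_inf_eq, Subgroup.coe_top, Subgroup.centralizer_univ, Subgroup.card_top] at h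
  have hidx1 : (center H).index ≠ 1 := fun h1 => hna ⟨⟨fun a b =>
    mem_center_iff.mp ((Subgroup.index_eq_one.mp h1).symm ▸ mem_top b) a⟩⟩
  obtain ⟨q, hq, j, hj⟩ := Nat.exists_prime_and_dvd hidx1
  have hj1 : j ≠ 1 := fun hj1 => hna (by
    haveI := Fact.mk hq
    haveI : IsCyclic (H ⧸ center H) := isCyclic_of_prime_card (p := q) (by
      rw [← Subgroup.index_eq_card, hj, hj1, mul_one])
    exact isMulCommutative_iff.mpr (commutative_of_cyclic_center_quotient (QuotientGroup.mk' (center H))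
      (QuotientGroup.ker_mk' _).le))
  obtain ⟨q', hq', hq'j⟩ := Nat.exists_prime_and_dvd hj1
  have hidv : (center H).index ∣ Nat.card H := Subgroup.index_dvd_card _
  have hj0 : 0 < j := Nat.pos_of_ne_zero fun h0 =>
    Subgroup.FiniteIndex.index_ne_zero (H := center H) (by rw [hj, h0, mul_zero])
  have hsq : p ^ 2 ≤ (center H).index := by
    rw [hj, sq]
    exact Nat.mul_le_mul (hmin q hq ((hj ▸ Dvd.intro j rfl : q ∣ _).trans hidv))
      ((hmin q' hq' ((hq'j.trans (hj ▸ Dvd.intro_left q rfl)).trans hidv)).trans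
        (Nat.le_of_dvd hj0 hq'j))
  have hZ : p ^ 2 * Nat.card (center H) ≤ Nat.card H := by
    rw [← (center H).index_mul_card]
    exact Nat.mul_le_mul_right _ hsq
  obtain ⟨e, rfl⟩ : ∃ e, p = e + 1 := ⟨p - 1, by omega⟩
  simp only [Nat.add_sub_cancel] at h
  rw [show (e + 1) ^ 2 + (e + 1) - 1 = (e + 1) ^ 2 + e by omega]
  nlinarith [Nat.mul_le_mul_left ((e + 1) ^ 2) h, Nat.mul_le_mul_left e hZ]

/-- Character degrees bound the number of classes through the derived subgroup. -/
theorem sq_mul_card_conjClasses_le {H : Type u} [Group H] [Finite H] {p : ℕ}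
    (hmin : ∀ q : ℕ, q.Prime → q ∣ Nat.card H → p ≤ q) :
    p ^ 2 * Nat.card (ConjClasses H) ≤
      Nat.card H + (p ^ 2 - 1) * (commutator H).index := by
  classical
  rw [← CfsgLib.Chars.card_irr_eq_card_classes, ← CfsgLib.Chars.card_degree_one]
  haveI : Finite (Cfsg.IrrCharacter H) := Nat.finite_of_card_ne_zero (by
    rw [CfsgLib.Chars.card_irr_eq_card_classes]; exact Nat.card_pos.ne')
  haveI := Fintype.ofFinite (Cfsg.IrrCharacter H)
  choose n hn0 hn hdvd using fun χ : Cfsg.IrrCharacter H => CfsgLib.Chars.irr_degree_dvd_card χ.2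
  have hsum : ∑ χ, n χ ^ 2 = Nat.card H := by
    have h := CfsgLib.Chars.sum_degree_sq (G := H)
    simp only [hn] at h
    exact_mod_cast h
  simp only [Nat.card_eq_fintype_card (α := Cfsg.IrrCharacter H)]
  rw [← hsum, Nat.card_eq_fintype_card,
    Fintype.card_subtype fun χ : Cfsg.IrrCharacter H => (χ : H → ℂ) 1 = 1, Finset.card_filter,
    Finset.mul_sum,
    ← Finset.sum_add_distrib, ← Finset.card_univ, mul_comm, ← smul_eq_mul, ← Finset.sum_const]
  refine Finset.sum_le_sum fun χ _ => ?_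
  split_ifs with h1
  · have : n χ = 1 := by exact_mod_cast (hn χ).symm.trans h1
    rw [this, mul_one, one_pow]
    omega
  · have hne : n χ ≠ 1 := fun h => h1 (by rw [hn χ, h, Nat.cast_one])
    obtain ⟨q, hq, hqn⟩ := Nat.exists_prime_and_dvd hne
    exact le_add_right (Nat.pow_le_pow_left
      ((hmin q hq (hqn.trans (hdvd χ))).trans (Nat.le_of_dvd (hn0 χ) hqn)) 2)

end Orbit

end CfsgLib.PiClasses
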