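import Cfsg.Agent.Lib.PiClasses.Tools
import Cfsg.Agent.Lib.Coprime.Action

/-!
# The π-class count when there is a normal r-complement
-/

set_option autoImplicit false
set_option linter.unusedSectionVars false
set_option linter.style.haveILetI false

universe u

namespace CfsgLib.PiClasses

open Subgroup CfsgLib.PGroups
open scoped Pointwise

variable {G : Type u} [Group G] [Finite G] {τ : Finset ℕ} {r : ℕ} [hr : Fact r.Prime]

/-- In the presence of a normal `r`-complement `K`, the `τ`-part of the centralizer of an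
`r`-element normalising the Hall subgroup `H ≤ K` divides its part in `H`. -/
theorem piPart_centralizer_dvd (hτ : ∀ q ∈ τ, q.Prime) (hrτ : r ∉ τ) {H : Subgroup G}
    (hH : Nat.card H = piPart τ (Nat.card G))
    (hK : Cfsg.HasNormalPComplement r G) {A : Subgroup G} (hAr : IsPGroup r A)
    (hA : A ≤ normalizer (H : Set G)) (hAcomm : IsMulCommutative A) :
    piPart τ (Nat.card (centralizer (A : Set G))) ∣
      Nat.card (H ⊓ centralizer (A : Set G) : Subgroup G) := by
  set K := Cfsg.pResidual r G with hKdef
  haveI : K.Normal := CfsgLib.Transfer.pResidual_normal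
  have hKr : ¬ r ∣ Nat.card K := CfsgLib.Transfer.hasNormalPComplement_iff_pResidual.mp hK
  have hAK : A ≤ normalizer (K : Set G) := Subgroup.le_normalizer_of_normal.trans' le_top
  have hcop : (Nat.card A).Coprime (Nat.card K) := by
    obtain ⟨k, hk⟩ := IsPGroup.iff_card.mp hAr
    rw [hk]
    exact Nat.Coprime.pow_left k (hr.out.coprime_iff_not_dvd.mpr hKr)
  haveI := hAcomm
  haveI : Group.IsSolvable A := isSolvable_of_comm fun a b => hAcomm.is_comm.comm a b
  have hsolv : Group.IsSolvable A ∨ Group.IsSolvable K := Or.inl inferInstance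
  have hHK : H ≤ K := by
    intro h hh
    refine CfsgLib.Transfer.mem_pResidual_of_coprime ((hr.out.coprime_iff_not_dvd.mpr ?_).symm)
    intro hd
    exact hrτ (mem_of_dvd_piPart hτ hr.out
      (hH ▸ hd.trans ((Subgroup.orderOf_mk h hh).symm ▸ orderOf_dvd_natCard (⟨h, hh⟩ : H))))
  refine (Nat.factorization_le_iff_dvd (piPart_pos hτ _).ne' Nat.card_pos.ne').mp fun s => ?_
  rw [factorization_piPart hτ]
  split_ifs with hs
  swap; · exact Nat.zero_le _
  haveI : Fact s.Prime := ⟨hτ s hs⟩
  have hsr : s ≠ r := fun h => hrτ (h ▸ hs)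
  -- a Sylow subgroup of the centralizer
  obtain ⟨U₀⟩ : Nonempty (Sylow s (centralizer (A : Set G))) := inferInstance
  set U := (U₀ : Subgroup (centralizer (A : Set G))).map (centralizer (A : Set G)).subtype with hU
  have hUC : U ≤ centralizer (A : Set G) := Subgroup.map_subtype_le _
  have hUp : IsPGroup s U := U₀.2.map _
  have hUcard : Nat.card U = s ^ (Nat.card (centralizer (A : Set G))).factorization s := by
    rw [hU, ← Nat.card_congr ((U₀ : Subgroup (centralizer (A : Set G))).equivMapOfInjective _
      (Subgroup.subtype_injective _)).toEquiv, U₀.card_eq_multiplicity]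
  have hUK : U ≤ K := by
    intro u hu
    refine CfsgLib.Transfer.mem_pResidual_of_coprime ?_
    obtain ⟨k, hk⟩ := IsPGroup.iff_orderOf.mp hUp ⟨u, hu⟩
    rw [Subgroup.orderOf_mk] at hk
    rw [hk]
    exact Nat.Coprime.pow_left k ((Nat.coprime_primes (Fact.out) hr.out).mpr hsr)
  have hUA : A ≤ normalizer (U : Set G) := fun a ha =>
    Subgroup.centralizer_le_normalizer _ (mem_centralizer_iff.mpr fun u hu =>
      (mem_centralizer_iff.mp (hUC hu) a ha).symm)
  obtain ⟨P, hUP, hP⟩ := CfsgLib.Coprime.exists_invariant_sylow_ge hAK hcop hsolv hUK hUp hUA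
  -- an invariant Sylow subgroup inside `H`
  have hcopH : (Nat.card A).Coprime (Nat.card H) :=
    hcop.coprime_dvd_right (Subgroup.card_dvd_of_le hHK)
  obtain ⟨S₀, hS₀⟩ := CfsgLib.Coprime.exists_invariant_sylow (p := s) hA hcopH (Or.inl inferInstance)
  set S := (S₀ : Subgroup H).map H.subtype with hS
  have hSH : S ≤ H := Subgroup.map_subtype_le _
  have hfac : (Nat.card H).factorization s = (Nat.card K).factorization s := by
    refine le_antisymm ((Nat.factorization_le_iff_dvd Nat.card_pos.ne' Nat.card_pos.ne').mpr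
      (Subgroup.card_dvd_of_le hHK) s) ?_
    refine ((Nat.factorization_le_iff_dvd Nat.card_pos.ne' Nat.card_pos.ne').mpr
      (Subgroup.card_subgroup_dvd_card K) s).trans_eq ?_
    rw [hH, factorization_piPart hτ, if_pos hs]
  let P' : Sylow s K := Sylow.ofCard (S.subgroupOf K) (by
    rw [Nat.card_congr (Subgroup.subgroupOfEquivOfLe (hSH.trans hHK)).toEquiv, hS,
      ← Nat.card_congr ((S₀ : Subgroup H).equivMapOfInjective _ H.subtype_injective).toEquiv,
      S₀.card_eq_multiplicity, hfac])
  have hP'eq : (P' : Subgroup K).map K.subtype = S :=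
    Subgroup.map_subgroupOf_eq_of_le (hSH.trans hHK)
  obtain ⟨c, hc, hcP⟩ := CfsgLib.Coprime.invariant_sylow_conj hAK hcop hsolv P P' hP
    (by rw [hP'eq]; exact hS₀)
  have hle : U.map (MulAut.conj (c : G)).toMonoidHom ≤ H ⊓ centralizer (A : Set G) := by
    rintro _ ⟨u, hu, rfl⟩
    refine ⟨hSH ?_, ?_⟩
    · obtain ⟨u', hu', rfl⟩ := hUP hu
      rw [← hP'eq, ← hcP]
      exact ⟨c * u' * c⁻¹, ⟨u', hu', rfl⟩, rfl⟩
    · exact (centralizer (A : Set G)).mul_mem ((centralizer (A : Set G)).mul_mem hc (hUC hu))
        ((centralizer (A : Set G)).inv_mem hc)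
  have hdvd := Subgroup.card_dvd_of_le hle
  rw [← Nat.card_congr (U.equivMapOfInjective _ (MulAut.conj (c : G)).injective).toEquiv,
    hUcard] at hdvd
  exact ((Fact.out : s.Prime).pow_dvd_iff_le_factorization Nat.card_pos.ne').mp hdvd

/-- The count in the case of a normal `r`-complement: `r k ≤ m`. -/
theorem mul_card_piClasses_le_of_complement {σ : Finset ℕ} (hσ : ∀ q ∈ σ, q.Prime) (hrσ : r ∈ σ)
    (hK : Cfsg.HasNormalPComplement r G) (R : Sylow r G)
    (hRab : IsMulCommutative (R : Subgroup G)) {H : Subgroup G} (hn : Group.IsNilpotent H)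
    (hH : Nat.card H = piPart (σ.erase r) (Nat.card G))
    (hR : (R : Subgroup G) ≤ normalizer (H : Set G))
    (hnc : ¬ (R : Subgroup G) ≤ centralizer (H : Set G)) :
    r * Nat.card (piClasses σ G) ≤ piPart σ (Nat.card G) := by
  classical
  haveI := Fintype.ofFinite (piClasses {r} G)
  have hτ : ∀ q ∈ σ.erase r, q.Prime := fun q hq => hσ q (Finset.mem_of_mem_erase hq)
  have hrH : ¬ r ∣ Nat.card H := fun hd =>
    Finset.ne_of_mem_erase (mem_of_dvd_piPart hτ hr.out (hH ▸ hd)) rfl
  set R₁ := (R : Subgroup G) ⊓ centralizer (H : Set G) with hR₁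
  have hR₁lt : r * Nat.card R₁ ≤ Nat.card (R : Subgroup G) := by
    have hne : R₁.subgroupOf (R : Subgroup G) ≠ ⊤ := fun h =>
      hnc ((Subgroup.subgroupOf_eq_top.mp h).trans inf_le_right)
    have hidx := Nat.le_of_dvd (Nat.pos_of_ne_zero Subgroup.FiniteIndex.index_ne_zero)
      (dvd_index_of_ne_top R.2 hne)
    rw [← Subgroup.card_mul_index (R₁.subgroupOf (R : Subgroup G)),
      Nat.card_congr (Subgroup.subgroupOfEquivOfLe (inf_le_left : R₁ ≤ R)).toEquiv, mul_comm r]
    exact Nat.mul_le_mul_left _ hidx
  choose x hxR hxc using exists_isConj_of_piClasses R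
  set m := piPart (σ.erase r) (Nat.card G) with hm
  -- the weight of each class
  have hterm : ∀ c : piClasses {r} G,
      (r + 1) * Nat.card (piClasses (σ.erase r) (centralizer ({c.1.out} : Set G))) ≤
        m + if x c ∈ centralizer (H : Set G) then m else 0 := by
    intro c
    rw [card_piClasses_centralizer_isConj (hxc c)]
    split_ifs with hx
    · set X := centralizer ({x c} : Set G) with hX
      have hHX : H ≤ X := fun h hh =>
        mem_centralizer_singleton_iff.mpr (mem_centralizer_iff.mp hx h hh)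
      have hRX : (R : Subgroup G) ≤ X := fun a ha =>
        mem_centralizer_singleton_iff.mpr
          (congrArg Subtype.val (hRab.is_comm.comm ⟨a, ha⟩ ⟨x c, hxR c⟩))
      have hHX' := card_subgroupOf_hall hτ hHX hH
      let f : H → piClasses (σ.erase r) X := fun h => hallClass hτ hHX'
        ((Subgroup.subgroupOfEquivOfLe hHX).symm h)
      have hf : Function.Surjective f :=
        (hallClass_surjective hτ (isNilpotent_subgroupOf hHX hn) hHX').comp
          (Subgroup.subgroupOfEquivOfLe hHX).symm.surjective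
      have h1 := mul_card_le_conj hR hf (fun a b g hg hab => (hallClass_eq_iff hτ hHX').mpr
        (isConj_iff.mpr ⟨⟨g, hRX hg⟩, Subtype.ext hab⟩)) hr.out.one_le (d := r)
        (fun q hq hd => ((Nat.prime_dvd_prime_iff_eq hq hr.out).mp (hq.dvd_of_dvd_pow
          (R.card_eq_multiplicity ▸ hd))).ge)
      have h2 := succ_mul_card_fixed_le hR R.2 hrH (fun h => hnc fun a ha =>
        mem_centralizer_iff.mpr fun y hy => (mem_centralizer_iff.mp (h hy) a ha).symm)
      rw [hH] at h1 h2
      refine Nat.le_of_mul_le_mul_left ?_ hr.out.pos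
      calc r * ((r + 1) * Nat.card (piClasses (σ.erase r) X))
          = (r + 1) * (r * Nat.card (piClasses (σ.erase r) X)) := by ring
        _ ≤ (r + 1) * (m + (r - 1) * Nat.card
              (H ⊓ centralizer ((R : Subgroup G) : Set G) : Subgroup G)) :=
            Nat.mul_le_mul_left _ h1
        _ = (r + 1) * m + (r - 1) * ((r + 1) * Nat.card
              (H ⊓ centralizer ((R : Subgroup G) : Set G) : Subgroup G)) := by ring
        _ ≤ (r + 1) * m + (r - 1) * m := by
            exact Nat.add_le_add_left (Nat.mul_le_mul_left _ h2) _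
        _ = r * (m + m) := by
            rw [← Nat.add_mul, show r + 1 + (r - 1) = 2 * r by have := hr.out.one_le; omega]
            ring
    · have hle : zpowers (x c) ≤ (R : Subgroup G) := zpowers_le.mpr (hxR c)
      have h1 := succ_mul_card_fixed_le (hle.trans hR) (R.2.to_le hle) hrH (fun h => hx
        (mem_centralizer_iff.mpr fun y hy =>
          (mem_centralizer_iff.mp (h hy) _ (mem_zpowers _)).symm))
      have hcz : centralizer ((zpowers (x c) : Subgroup G) : Set G) =
          centralizer ({x c} : Set G) := by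
        rw [zpowers_eq_closure, centralizer_closure]
      have h2 := (card_piClasses_le_piPart (G := centralizer ({x c} : Set G)) hτ).trans
        (Nat.le_of_dvd Nat.card_pos (hcz ▸ piPart_centralizer_dvd hτ (Finset.notMem_erase r σ) hH
          hK (R.2.to_le hle) (hle.trans hR) inferInstance))
      rw [hH, hcz] at h1
      rw [add_zero]
      refine le_trans (Nat.mul_le_mul_left _ h2) ?_
      exact h1
  have hcount : (Finset.univ.filter fun c => x c ∈ centralizer (H : Set G)).card ≤
      Nat.card R₁ := by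
    rw [← Fintype.card_subtype, ← Nat.card_eq_fintype_card]
    refine Nat.card_le_card_of_injective (fun c => ⟨x c.1, hxR c.1, c.2⟩) fun c c' h => ?_
    have h' : x c.1 = x c'.1 := congrArg Subtype.val h
    refine Subtype.ext (Subtype.ext ?_)
    rw [← Quotient.out_eq c.1.1, ← Quotient.out_eq c'.1.1]
    exact ConjClasses.mk_eq_mk_iff_isConj.mpr ((hxc c.1).symm.trans (h' ▸ hxc c'.1))
  have hsum := Nat.mul_le_mul_left (r + 1) (card_piClasses_le_sum (G := G) hrσ)
  rw [Finset.mul_sum] at hsum
  have h3 := hsum.trans (Finset.sum_le_sum fun c _ => hterm c)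
  rw [Finset.sum_add_distrib, ← Finset.sum_filter, Finset.sum_const, Finset.sum_const,
    smul_eq_mul, smul_eq_mul, Finset.card_univ, ← Nat.card_eq_fintype_card] at h3
  have h4 : Nat.card (piClasses {r} G) ≤ Nat.card (R : Subgroup G) :=
    card_piClasses_le_card_sylow R
  rw [piPart_eq_mul_erase hrσ, ← R.card_eq_multiplicity, ← hm]
  refine Nat.le_of_mul_le_mul_left ?_ (Nat.succ_pos r)
  nlinarith [Nat.mul_le_mul_left (r * m) h4, Nat.mul_le_mul_left (r * m) hcount,
    Nat.mul_le_mul_left m hR₁lt, Nat.mul_le_mul_left r h3]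

end CfsgLib.PiClasses
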