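import Cfsg.Agent.Lib.PiClasses.Main

/-!
# From a set of primes to the π-class count
-/

set_option autoImplicit false
set_option linter.unusedSectionVars false

universe u

namespace CfsgLib.PiClasses

open CfsgLib.PGroups

theorem exists_hall_of_many {G : Type u} [Group G] [Finite G]
    (π : Set ℕ) (hπ : ∀ q ∈ π, q.Prime) (p : ℕ) (hp2 : 2 ≤ p) (hmin : ∀ q ∈ π, p ≤ q)
    (m : ℕ) (hm : m ∣ Nat.card G) (hmπ : ∀ q : ℕ, q.Prime → q ∣ m → q ∈ π)
    (hm' : ∀ q ∈ π, ¬ q ∣ Nat.card G / m)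
    (k : ℕ) (hk : k = Nat.card {C : ConjClasses G // ∀ q : ℕ, q.Prime →
      (∃ g : G, ConjClasses.mk g = C ∧ q ∣ orderOf g) → q ∈ π})
    (hmany : m < p * k) :
    ∃ H : Subgroup G, Nat.card H = m ∧ Group.IsNilpotent H ∧ k ≤ Nat.card (ConjClasses H) ∧
      ∀ q : ℕ, q.Prime → q ∣ Nat.card H → p ≤ q := by
  classical
  set σ := (Nat.card G).primeFactors.filter (· ∈ π) with hσdef
  have hσ : ∀ q ∈ σ, q.Prime := fun q hq => hπ q (Finset.mem_filter.mp hq).2
  have hpσ : ∀ q ∈ σ, p ≤ q := fun q hq => hmin q (Finset.mem_filter.mp hq).2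
  have hpart : piPart σ (Nat.card G) = m := piPart_eq_of hσ Nat.card_pos.ne' hm
    (fun q hq hd => Finset.mem_filter.mpr
      ⟨Nat.mem_primeFactors.mpr ⟨hq, hd.trans hm, Nat.card_pos.ne'⟩, hmπ q hq hd⟩)
    (fun q hq => hm' q (Finset.mem_filter.mp hq).2)
  have hkσ : Nat.card (piClasses σ G) = k := by
    rw [hk]
    refine Nat.card_congr (Equiv.subtypeEquivRight fun C => ⟨fun h q hq hg => ?_, fun h x hx q hq
      hd => ?_⟩)
    · obtain ⟨g, rfl, hd⟩ := hg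
      exact (Finset.mem_filter.mp (h g ConjClasses.mem_carrier_mk q hq hd)).2
    · exact Finset.mem_filter.mpr ⟨Nat.mem_primeFactors.mpr
        ⟨hq, hd.trans (orderOf_dvd_natCard x), Nat.card_pos.ne'⟩,
        h q hq ⟨x, ConjClasses.mem_carrier_iff_mk_eq.mp hx, hd⟩⟩
  obtain ⟨H, hn, hH⟩ := hallStep hp2 σ hσ hpσ G (by rw [hpart, hkσ]; exact hmany)
  exact ⟨H, hH.trans hpart, hn, hkσ ▸ card_piClasses_le_conjClasses_hall hσ hn hH,
    fun q hq hd => hpσ q (mem_of_dvd_piPart hσ hq (hH ▸ hd))⟩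

theorem card_commutator_le_of_many {H : Type u} [Group H] [Finite H] {p : ℕ} (hp : 2 ≤ p)
    (hmin : ∀ q : ℕ, q.Prime → q ∣ Nat.card H → p ≤ q)
    (hmany : Nat.card H < p * Nat.card (ConjClasses H)) : Nat.card (commutator H) ≤ p := by
  by_contra hc
  push Not at hc
  have h := sq_mul_card_conjClasses_le hmin
  have hcard := (commutator H).card_mul_index
  obtain ⟨e, rfl⟩ : ∃ e, p = e + 2 := ⟨p - 2, by omega⟩
  obtain ⟨d, hd⟩ : ∃ d, Nat.card (commutator H) = e + 3 + d := ⟨_, (Nat.add_sub_cancel' hc).symm⟩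
  rw [hd] at hcard
  rw [show (e + 2) ^ 2 - 1 = (e + 1) * (e + 3) from Nat.sub_eq_of_eq_add (by ring)] at h
  nlinarith [Nat.zero_le (d * (e + 1) * (commutator H).index),
    Nat.mul_le_mul_left (e + 2) hmany]

end CfsgLib.PiClasses
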