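import Cfsg.Agent.Lib.PiClasses.Complement

/-!
# Many classes of π-elements force a nilpotent Hall subgroup
-/

set_option autoImplicit false
set_option linter.unusedSectionVars false
set_option linter.style.haveILetI false

universe u

namespace CfsgLib.PiClasses

open Subgroup CfsgLib.PGroups
open scoped Pointwise

/-- The property proved by induction on the set of primes. -/
def HallStep (p : ℕ) (τ : Finset ℕ) : Prop :=
  ∀ (X : Type u) [Group X] [Finite X],
    piPart τ (Nat.card X) < p * Nat.card (piClasses τ X) →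
    ∃ H : Subgroup X, Group.IsNilpotent H ∧ Nat.card H = piPart τ (Nat.card X)

variable {G : Type u} [Group G] [Finite G] {p : ℕ}

/-- A centralizer with many classes contains a full nilpotent Hall subgroup. -/
theorem hall_of_many {τ : Finset ℕ} (hτ : ∀ q ∈ τ, q.Prime) (hpτ : ∀ q ∈ τ, p ≤ q)
    (IH : HallStep.{u} p τ) (X : Subgroup G)
    (h : piPart τ (Nat.card G) < p * Nat.card (piClasses τ X)) :
    ∃ H : Subgroup G, H ≤ X ∧ Group.IsNilpotent H ∧ Nat.card H = piPart τ (Nat.card G) := by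
  have hk := card_piClasses_le_piPart (G := X) hτ
  have hfull : piPart τ (Nat.card X) = piPart τ (Nat.card G) := by
    by_contra hne
    have := Nat.mul_le_mul_left p hk
    have := mul_piPart_le_of_ne hτ hpτ X hne
    omega
  obtain ⟨H, hn, hH⟩ := IH X (hfull ▸ h)
  exact ⟨H.map X.subtype, Subgroup.map_subtype_le _, isNilpotent_map hn, card_map_hall hH hfull⟩

section Step

variable {σ : Finset ℕ} {r : ℕ} [hr : Fact r.Prime]

theorem card_sylow_mul {R : Sylow r G} (hrσ : r ∈ σ) :
    piPart σ (Nat.card G) =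
      Nat.card (R : Subgroup G) * piPart (σ.erase r) (Nat.card G) := by
  rw [piPart_eq_mul_erase hrσ, R.card_eq_multiplicity]

/-- A nilpotent Hall subgroup for `σ ∖ r` centralised by a Sylow `r`-subgroup. -/
theorem hall_of_centralizing (hσ : ∀ q ∈ σ, q.Prime) (hrσ : r ∈ σ) (R : Sylow r G)
    {H : Subgroup G} (hn : Group.IsNilpotent H)
    (hH : Nat.card H = piPart (σ.erase r) (Nat.card G))
    (hR : (R : Subgroup G) ≤ centralizer (H : Set G)) :
    ∃ K : Subgroup G, Group.IsNilpotent K ∧ Nat.card K = piPart σ (Nat.card G) := by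
  haveI : Group.IsNilpotent (R : Subgroup G) := R.2.isNilpotent
  have hτ : ∀ q ∈ σ.erase r, q.Prime := fun q hq => hσ q (Finset.mem_of_mem_erase hq)
  obtain ⟨K, hK, hc⟩ := exists_nilpotent_prod hn R.2.isNilpotent hR (by
    rw [R.card_eq_multiplicity]
    exact Nat.Coprime.pow_right _ ((hr.out.coprime_iff_not_dvd.mpr fun hd =>
      Finset.ne_of_mem_erase (mem_of_dvd_piPart hτ hr.out (hH ▸ hd)) rfl).symm))
  exact ⟨K, hK, by rw [hc, hH, mul_comm, ← card_sylow_mul hrσ]⟩

/-- Few classes of `r`-elements carry many classes unless there is a nilpotent Hall subgroup. -/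
theorem card_good_le (hσ : ∀ q ∈ σ, q.Prime) (hrσ : r ∈ σ) {H : Subgroup G}
    (hn : Group.IsNilpotent H) (hH : Nat.card H = piPart (σ.erase r) (Nat.card G))
    (hno : ¬ ∃ K : Subgroup G, Group.IsNilpotent K ∧ Nat.card K = piPart σ (Nat.card G))
    (R : Sylow r G) (good : piClasses {r} G → Prop)
    (hgood : ∀ c, good c → ∃ H' : Subgroup G, H' ≤ centralizer ({c.1.out} : Set G) ∧
      Group.IsNilpotent H' ∧ Nat.card H' = piPart (σ.erase r) (Nat.card G)) :
    r * Nat.card {c // good c} ≤ Nat.card (R : Subgroup G) := by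
  have hτ : ∀ q ∈ σ.erase r, q.Prime := fun q hq => hσ q (Finset.mem_of_mem_erase hq)
  obtain ⟨R₁⟩ : Nonempty (Sylow r (centralizer (H : Set G))) := inferInstance
  set R' := (R₁ : Subgroup (centralizer (H : Set G))).map (centralizer (H : Set G)).subtype with hR'
  have hR'C : R' ≤ centralizer (H : Set G) := Subgroup.map_subtype_le _
  have hcard : Nat.card R' = Nat.card (R₁ : Subgroup (centralizer (H : Set G))) :=
    (Nat.card_congr ((R₁ : Subgroup (centralizer (H : Set G))).equivMapOfInjective _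
      (Subgroup.subtype_injective _)).toEquiv).symm
  have hlt : r * Nat.card R' ≤ Nat.card (R : Subgroup G) := by
    obtain ⟨S, hS⟩ := (R₁.2.map (centralizer (H : Set G)).subtype).exists_le_sylow
    rw [R.card_eq_multiplicity, ← S.card_eq_multiplicity]
    have hne : R'.subgroupOf (S : Subgroup G) ≠ ⊤ := fun h => hno
      (hall_of_centralizing hσ hrσ S hn hH ((Subgroup.subgroupOf_eq_top.mp h).trans hR'C))
    have hidx := Nat.le_of_dvd (Nat.pos_of_ne_zero Subgroup.FiniteIndex.index_ne_zero)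
      (dvd_index_of_ne_top S.2 hne)
    rw [← Subgroup.card_mul_index (R'.subgroupOf (S : Subgroup G)),
      Nat.card_congr (Subgroup.subgroupOfEquivOfLe hS).toEquiv, mul_comm r]
    exact Nat.mul_le_mul_left _ hidx
  refine le_trans (Nat.mul_le_mul_left r ?_) hlt
  have key : ∀ c, good c → ∃ w ∈ R', IsConj w c.1.out := by
    intro c hc
    obtain ⟨H', hH'le, hH'n, hH'c⟩ := hgood c hc
    obtain ⟨g, hg⟩ := exists_conj_eq hτ hn hH hH'c
    have hy : g⁻¹ * c.1.out * g ∈ centralizer (H : Set G) := by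
      refine mem_centralizer_iff.mpr fun h hh => ?_
      have hmem : g * h * g⁻¹ ∈ H' := by
        rw [hg, CfsgLib.Coprime.mem_conj_smul]
        simpa [mul_assoc] using hh
      have h2 := mem_centralizer_singleton_iff.mp (hH'le hmem)
      calc h * (g⁻¹ * c.1.out * g) = g⁻¹ * ((g * h * g⁻¹) * c.1.out) * g := by group
        _ = g⁻¹ * (c.1.out * (g * h * g⁻¹)) * g := by rw [h2]
        _ = _ := by group
    have hyp : IsPGroup r (zpowers (⟨_, hy⟩ : centralizer (H : Set G))) := by
      obtain ⟨k, hk⟩ := IsPGroup.iff_card.mp (isPGroup_zpowers_out R c)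
      refine IsPGroup.of_card (n := k) ?_
      rw [Nat.card_zpowers] at hk ⊢
      rw [Subgroup.orderOf_mk, ← hk,
        show g⁻¹ * c.1.out * g = MulAut.conj g⁻¹ c.1.out by simp, MulEquiv.orderOf_eq]
    obtain ⟨Q, hQ⟩ := hyp.exists_le_sylow
    obtain ⟨z, hz⟩ := MulAction.exists_smul_eq (centralizer (H : Set G)) Q R₁
    have hmem : z * ⟨_, hy⟩ * z⁻¹ ∈ (R₁ : Subgroup (centralizer (H : Set G))) := by
      rw [← hz, Sylow.coe_subgroup_smul]
      exact Subgroup.smul_mem_pointwise_smul _ (MulAut.conj z) _ (hQ (mem_zpowers _))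
    refine ⟨_, ⟨_, hmem, rfl⟩, isConj_iff.mpr ⟨g * (z : G)⁻¹, ?_⟩⟩
    simp only [Subgroup.coe_subtype, Subgroup.coe_mul, Subgroup.coe_inv]
    group
  choose w hwR hwc using key
  refine Nat.card_le_card_of_injective (fun c => ⟨w c.1 c.2, hwR c.1 c.2⟩) fun c c' h => ?_
  have h' : w c.1 c.2 = w c'.1 c'.2 := congrArg Subtype.val h
  refine Subtype.ext (Subtype.ext ?_)
  rw [← Quotient.out_eq c.1.1, ← Quotient.out_eq c'.1.1]
  exact ConjClasses.mk_eq_mk_iff_isConj.mpr ((hwc c.1 c.2).symm.trans (h' ▸ hwc c'.1 c'.2))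

/-- A non-central coprime element of the normalizer leaves few classes of `r`-elements. -/
theorem mul_card_piClasses_le_of_elem (R : Sylow r G) {v : G}
    (hv : v ∈ normalizer ((R : Subgroup G) : Set G))
    (hvC : v ∉ centralizer ((R : Subgroup G) : Set G)) (hp : 1 ≤ p)
    (hvp : ∀ q : ℕ, q.Prime → q ∣ orderOf v → p ≤ q) :
    r * p * Nat.card (piClasses {r} G) ≤ (r + p - 1) * Nat.card (R : Subgroup G) := by
  have h := mul_card_le_conj (A := zpowers v) (zpowers_le.mpr hv) (sylowClass_surjective R)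
    (fun x y a _ hxy => Subtype.ext (ConjClasses.mk_eq_mk_iff_isConj.mpr
      (isConj_iff.mpr ⟨a, hxy⟩))) hp (by rw [Nat.card_zpowers]; exact hvp)
  set F := (R : Subgroup G) ⊓ centralizer ((zpowers v : Subgroup G) : Set G) with hF
  have hne : F.subgroupOf (R : Subgroup G) ≠ ⊤ := fun h => hvC
    (mem_centralizer_iff.mpr fun y hy => (mem_centralizer_iff.mp
      ((Subgroup.subgroupOf_eq_top.mp h hy).2) v (mem_zpowers v)).symm)
  have hidx := Nat.le_of_dvd (Nat.pos_of_ne_zero Subgroup.FiniteIndex.index_ne_zero)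
    (dvd_index_of_ne_top R.2 hne)
  have hrF : Nat.card F * r ≤ Nat.card (R : Subgroup G) := by
    rw [← Subgroup.card_mul_index (F.subgroupOf (R : Subgroup G)),
      Nat.card_congr (Subgroup.subgroupOfEquivOfLe (inf_le_left : F ≤ R)).toEquiv]
    exact Nat.mul_le_mul_left _ hidx
  obtain ⟨e, rfl⟩ : ∃ e, p = e + 1 := ⟨p - 1, by omega⟩
  simp only [Nat.add_sub_cancel] at h
  rw [show r + (e + 1) - 1 = r + e by omega]
  nlinarith [Nat.mul_le_mul_left r h, Nat.mul_le_mul_left e hrF]

/-- A centralizer with more than `(p+1)/(2p)` of the possible classes. -/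
theorem normalizer_le_centralizer_of_many {τ : Finset ℕ} (hτ : ∀ q ∈ τ, q.Prime)
    (hp : 2 ≤ p) (hpτ : ∀ q ∈ τ, p ≤ q) {H : Subgroup G} (hn : Group.IsNilpotent H)
    (hH : Nat.card H = piPart τ (Nat.card G))
    (hmany : (p + 1) * Nat.card H < 2 * p * Nat.card (piClasses τ G)) :
    IsMulCommutative H ∧ normalizer (H : Set G) ≤ centralizer (H : Set G) := by
  have hmin : ∀ q : ℕ, q.Prime → q ∣ Nat.card H → p ≤ q :=
    fun q hq hd => hpτ q (mem_of_dvd_piPart hτ hq (hH ▸ hd))
  have hab : IsMulCommutative H := by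
    by_contra hna
    have h1 := cube_mul_card_conjClasses_le (by omega) hmin hna
    have h2 := Nat.mul_le_mul_left (p ^ 3) (card_piClasses_le_conjClasses_hall hτ hn hH)
    have h3 : 2 * (p ^ 2 + p - 1) ≤ (p + 1) * p ^ 2 := by
      obtain ⟨e, rfl⟩ : ∃ e, p = e + 2 := ⟨p - 2, by omega⟩
      rw [show (e + 2) ^ 2 + (e + 2) - 1 = (e + 2) ^ 2 + (e + 1) by omega]
      nlinarith
    have h5 : p ^ 2 * (2 * p * Nat.card (piClasses τ G)) ≤ p ^ 2 * ((p + 1) * Nat.card H) := by
      calc p ^ 2 * (2 * p * Nat.card (piClasses τ G))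
          = 2 * (p ^ 3 * Nat.card (piClasses τ G)) := by ring
        _ ≤ 2 * ((p ^ 2 + p - 1) * Nat.card H) := Nat.mul_le_mul_left _ (h2.trans h1)
        _ = 2 * (p ^ 2 + p - 1) * Nat.card H := by ring
        _ ≤ (p + 1) * p ^ 2 * Nat.card H := Nat.mul_le_mul_right _ h3
        _ = _ := by ring
    exact absurd (Nat.le_of_mul_le_mul_left h5 (by positivity)) (not_le.mpr hmany)
  refine ⟨hab, fun g hg => ?_⟩
  by_contra hgC
  have h := mul_card_le_conj (A := zpowers g) (zpowers_le.mpr hg) (hallClass_surjective hτ hn hH)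
    (fun x y a _ hxy => (hallClass_eq_iff hτ hH).mpr (isConj_iff.mpr ⟨a, hxy⟩)) one_le_two
    (fun q hq _ => hq.two_le)
  simp only [show 2 - 1 = 1 from rfl, one_mul] at h
  set F := H ⊓ centralizer ((zpowers g : Subgroup G) : Set G) with hF
  obtain ⟨t, ht⟩ := Subgroup.card_dvd_of_le (inf_le_left : F ≤ H)
  have ht1 : t ≠ 1 := fun h1 => hgC (by
    have hFH : F = H := Subgroup.eq_of_le_of_card_ge inf_le_left (by rw [ht, h1, mul_one])
    exact mem_centralizer_iff.mpr fun y hy => (mem_centralizer_iff.mp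
      ((hFH.symm ▸ hy : y ∈ F).2) g (mem_zpowers g)).symm)
  have ht0 : 0 < t := Nat.pos_of_ne_zero fun h0 => Nat.card_pos.ne' (by rw [ht, h0, mul_zero])
  obtain ⟨q, hq, hqt⟩ := Nat.exists_prime_and_dvd ht1
  have htp : p ≤ t :=
    (hmin q hq (hqt.trans (ht ▸ Dvd.intro_left _ rfl))).trans (Nat.le_of_dvd ht0 hqt)
  have hF2 : p * Nat.card F ≤ Nat.card H := by rw [ht, mul_comm]; exact Nat.mul_le_mul_left _ htp
  nlinarith [Nat.mul_le_mul_left p h]

/-- Burnside transfer for an abelian Hall subgroup with central normalizer. -/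
theorem hasNormalPComplement_of_hall {τ : Finset ℕ} (hτ : ∀ q ∈ τ, q.Prime) {H : Subgroup G}
    (hH : Nat.card H = piPart τ (Nat.card G)) (hab : IsMulCommutative H)
    (hN : normalizer (H : Set G) ≤ centralizer (H : Set G)) {q : ℕ} [Fact q.Prime] (hq : q ∈ τ) :
    Cfsg.HasNormalPComplement q G := by
  obtain ⟨Q₀⟩ : Nonempty (Sylow q H) := inferInstance
  set Q := (Q₀ : Subgroup H).map H.subtype with hQ
  have hQH : Q ≤ H := Subgroup.map_subtype_le _
  let P : Sylow q G := Sylow.ofCard Q (by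
    rw [hQ, ← Nat.card_congr ((Q₀ : Subgroup H).equivMapOfInjective _ H.subtype_injective).toEquiv,
      Q₀.card_eq_multiplicity, hH, factorization_piPart hτ, if_pos hq])
  refine CfsgLib.Transfer.hasNormalPComplement_of_normalizer_le_centralizer P fun g hg => ?_
  change g ∈ normalizer (Q : Set G) at hg
  change g ∈ centralizer (Q : Set G)
  set C := centralizer (Q : Set G) with hC
  have hHC : H ≤ C := fun h hh => mem_centralizer_iff.mpr fun x hx =>
    congrArg Subtype.val (hab.is_comm.comm ⟨x, hQH hx⟩ ⟨h, hh⟩)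
  have hH' : H.map (MulAut.conj g).toMonoidHom ≤ C := by
    rintro _ ⟨h, hh, rfl⟩
    refine mem_centralizer_iff.mpr fun x hx => ?_
    have hx' : g⁻¹ * x * g ∈ Q := by
      have := (Subgroup.mem_normalizer_iff.mp (inv_mem hg) x).mp hx
      simpa using this
    have h2 := mem_centralizer_iff.mp (hHC hh) _ hx'
    simp only [MulEquiv.toMonoidHom_eq_coe, MonoidHom.coe_coe, MulAut.conj_apply]
    calc x * (g * h * g⁻¹) = g * ((g⁻¹ * x * g) * h) * g⁻¹ := by group
      _ = g * (h * (g⁻¹ * x * g)) * g⁻¹ := by rw [h2]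
      _ = _ := by group
  haveI := hab
  have hn : Group.IsNilpotent H := by
    letI : CommGroup H := { (inferInstance : Group H) with mul_comm := hab.is_comm.comm }
    infer_instance
  have hn' : Group.IsNilpotent (H.map (MulAut.conj g).toMonoidHom) :=
    haveI := hn
    Group.nilpotent_of_mulEquiv (H.equivMapOfInjective _ (MulAut.conj g).injective)
  obtain ⟨c, hc, hcH⟩ := CfsgLib.Transfer.exists_conj_nilpotent_hall hHC hH' hn hn'
    (Nat.card_congr (H.equivMapOfInjective _ (MulAut.conj g).injective).toEquiv)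
    ((coprime_index_of_card_eq hτ hH).coprime_dvd_right (Subgroup.relIndex_dvd_index_of_le hHC))
  have hcg : c * g ∈ normalizer (H : Set G) := by
    rw [CfsgLib.Coprime.mem_normalizer_iff_conj_smul, map_mul, mul_smul]
    exact hcH
  have hmem : c * g ∈ C := Subgroup.centralizer_le (show (Q : Set G) ⊆ H from hQH) (hN hcg)
  simpa using C.mul_mem (C.inv_mem hc) hmem

/-- The centralizer step when the Sylow `r`-subgroups are abelian with only central coprime
normalizing elements. -/
theorem card_term_le (hσ : ∀ q ∈ σ, q.Prime) (hrσ : r ∈ σ) (hp : 2 ≤ p) (hpσ : ∀ q ∈ σ, p ≤ q)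
    (IH : HallStep.{u} p (σ.erase r))
    (hno : ¬ ∃ K : Subgroup G, Group.IsNilpotent K ∧ Nat.card K = piPart σ (Nat.card G))
    (R : Sylow r G) (hRab : IsMulCommutative (R : Subgroup G))
    (hcent : ∀ (P : Sylow r G), ∀ v ∈ normalizer ((P : Subgroup G) : Set G),
      (∀ q : ℕ, q.Prime → q ∣ orderOf v → q ∈ σ.erase r) →
      v ∈ centralizer ((P : Subgroup G) : Set G)) (c : piClasses {r} G) :
    2 * p * Nat.card (piClasses (σ.erase r) (centralizer ({c.1.out} : Set G))) ≤
      (p + 1) * piPart (σ.erase r) (Nat.card G) := by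
  set τ := σ.erase r with hτdef
  have hτ : ∀ q ∈ τ, q.Prime := fun q hq => hσ q (Finset.mem_of_mem_erase hq)
  have hpτ : ∀ q ∈ τ, p ≤ q := fun q hq => hpσ q (Finset.mem_of_mem_erase hq)
  by_contra hbig
  push Not at hbig
  set X := centralizer ({c.1.out} : Set G) with hX
  have hk := card_piClasses_le_piPart (G := X) hτ
  obtain ⟨H, hHX, hn, hH⟩ := hall_of_many hτ hpτ IH X (by nlinarith)
  have hfull := piPart_self_of_hall hτ hH hHX
  set H₀ := H.subgroupOf X with hH₀def
  have hH₀n := isNilpotent_subgroupOf hHX hn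
  have hH₀ := card_subgroupOf_hall hτ hHX hH
  obtain ⟨hH₀ab, hN⟩ := normalizer_le_centralizer_of_many hτ hp hpτ hH₀n hH₀
    (by rw [hH₀, hfull]; exact hbig)
  set K : Subgroup X := ⨅ q : {q // q ∈ τ}, Cfsg.pResidual q.1 X with hKdef
  haveI : K.Normal := Subgroup.normal_iInf_normal fun q => CfsgLib.Transfer.pResidual_normal
  have hK : ∀ q ∈ τ, ¬ q ∣ Nat.card K := by
    intro q hq hd
    haveI : Fact q.Prime := ⟨hτ q hq⟩
    exact CfsgLib.Transfer.hasNormalPComplement_iff_pResidual.mp
      (hasNormalPComplement_of_hall hτ hH₀ hH₀ab hN hq)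
      (hd.trans (Subgroup.card_dvd_of_le (iInf_le _ (⟨q, hq⟩ : {q // q ∈ τ}))))
  obtain ⟨x, hxR, hxc⟩ := exists_isConj_of_piClasses R c
  obtain ⟨g, hg⟩ := isConj_iff.mp hxc
  have hRX : (R : Subgroup G).map (MulAut.conj g).toMonoidHom ≤ X := by
    rintro _ ⟨a, ha, rfl⟩
    rw [hX, ← hg, ← map_centralizer_singleton]
    exact ⟨a, mem_centralizer_singleton_iff.mpr
      (congrArg Subtype.val (hRab.is_comm.comm ⟨a, ha⟩ ⟨x, hxR⟩)), rfl⟩
  set R' := (R : Subgroup G).map (MulAut.conj g).toMonoidHom with hR'def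
  have hR'card : Nat.card R' = Nat.card (R : Subgroup G) :=
    (Nat.card_congr ((R : Subgroup G).equivMapOfInjective _ (MulAut.conj g).injective).toEquiv).symm
  have hR'K : R'.subgroupOf X ≤ K := by
    intro y hy
    rw [Subgroup.mem_iInf]
    rintro ⟨q, hq⟩
    refine CfsgLib.Transfer.mem_pResidual_of_coprime ?_
    obtain ⟨k, hk⟩ := IsPGroup.iff_orderOf.mp (R.2.map (MulAut.conj g).toMonoidHom)
      ⟨(y : G), Subgroup.mem_subgroupOf.mp hy⟩
    rw [Subgroup.orderOf_mk, Subgroup.orderOf_coe] at hk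
    rw [hk]
    exact Nat.Coprime.pow_left k
      ((Nat.coprime_primes hr.out (hτ q hq)).mpr (Ne.symm (Finset.ne_of_mem_erase hq)))
  have hcop : (Nat.card H₀).Coprime (Nat.card K) :=
    Nat.coprime_of_dvd fun q hq h1 h2 => hK q (mem_of_dvd_piPart hτ hq (hH₀ ▸ h1)) h2
  haveI := hH₀ab
  haveI : Group.IsSolvable H₀ := isSolvable_of_comm fun a b => hH₀ab.is_comm.comm a b
  obtain ⟨P, hP⟩ := CfsgLib.Coprime.exists_invariant_sylow (p := r) (A := H₀) (K := K)
    (Subgroup.le_normalizer_of_normal.trans' le_top) hcop (Or.inl inferInstance)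
  set S := ((P : Subgroup K).map K.subtype).map X.subtype with hS
  have hScard : Nat.card S = Nat.card (P : Subgroup K) := by
    rw [hS, ← Nat.card_congr (Subgroup.equivMapOfInjective _ _ X.subtype_injective).toEquiv,
      ← Nat.card_congr ((P : Subgroup K).equivMapOfInjective _ K.subtype_injective).toEquiv]
  have hge : Nat.card (R : Subgroup G) ≤ Nat.card S := by
    have hd := Subgroup.card_dvd_of_le hR'K
    rw [Nat.card_congr (Subgroup.subgroupOfEquivOfLe hRX).toEquiv, hR'card,
      R.card_eq_multiplicity] at hd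
    rw [hScard, P.card_eq_multiplicity, R.card_eq_multiplicity]
    exact Nat.pow_le_pow_right hr.out.pos
      ((hr.out.pow_dvd_iff_le_factorization Nat.card_pos.ne').mp hd)
  obtain ⟨T, hT⟩ := ((P.2.map K.subtype).map X.subtype : IsPGroup r S).exists_le_sylow
  have hTS : S = T := Subgroup.eq_of_le_of_card_ge hT
    (by rw [T.card_eq_multiplicity, ← R.card_eq_multiplicity]; exact hge)
  refine hno (hall_of_centralizing hσ hrσ T hn hH ?_)
  intro t ht
  refine mem_centralizer_iff.mpr fun h hh => ?_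
  have hnorm : h ∈ normalizer ((T : Subgroup G) : Set G) := by
    rw [← hTS, hS]
    exact Subgroup.le_normalizer_map X.subtype
      (⟨⟨h, hHX hh⟩, hP (show (⟨h, hHX hh⟩ : X) ∈ H₀ from hh), rfl⟩)
  have := hcent T h hnorm fun q hq hd => mem_of_dvd_piPart hτ hq (hH ▸ hd.trans
    ((Subgroup.orderOf_mk h hh).symm ▸ orderOf_dvd_natCard (⟨h, hh⟩ : H)))
  exact (mem_centralizer_iff.mp this t ht).symm

/-- The inductive step. -/
theorem hallStep_of_erase (hσ : ∀ q ∈ σ, q.Prime) (hrσ : r ∈ σ) (hp : 2 ≤ p)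
    (hpσ : ∀ q ∈ σ, p ≤ q) (hrp : p < r) (IH : HallStep.{u} p (σ.erase r))
    (h : piPart σ (Nat.card G) < p * Nat.card (piClasses σ G)) :
    ∃ H : Subgroup G, Group.IsNilpotent H ∧ Nat.card H = piPart σ (Nat.card G) := by
  classical
  by_contra hno
  haveI := Fintype.ofFinite (piClasses {r} G)
  set τ := σ.erase r with hτdef
  have hτ : ∀ q ∈ τ, q.Prime := fun q hq => hσ q (Finset.mem_of_mem_erase hq)
  have hpτ : ∀ q ∈ τ, p ≤ q := fun q hq => hpσ q (Finset.mem_of_mem_erase hq)
  obtain ⟨R⟩ : Nonempty (Sylow r G) := inferInstance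
  set m := piPart τ (Nat.card G) with hmdef
  set t : piClasses {r} G → ℕ := fun c =>
    Nat.card (piClasses τ (centralizer ({c.1.out} : Set G))) with htdef
  have hsum : Nat.card (piClasses σ G) ≤ ∑ c, t c := card_piClasses_le_sum hrσ
  have hkr : Nat.card (piClasses {r} G) ≤ Nat.card (R : Subgroup G) :=
    card_piClasses_le_card_sylow R
  have hmσ : piPart σ (Nat.card G) = Nat.card (R : Subgroup G) * m := card_sylow_mul hrσ
  rw [hmσ] at h
  have htm : ∀ c, t c ≤ m := fun c => (card_piClasses_le_piPart hτ).trans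
    (Nat.le_of_dvd (piPart_pos hτ _)
      (piPart_dvd_piPart hτ Nat.card_pos.ne' (Subgroup.card_subgroup_dvd_card _)))
  set good : piClasses {r} G → Prop := fun c => m < p * t c with hgooddef
  set f := (Finset.univ.filter good).card with hfdef
  have hgood : ∀ c, good c → ∃ H' : Subgroup G, H' ≤ centralizer ({c.1.out} : Set G) ∧
      Group.IsNilpotent H' ∧ Nat.card H' = m := fun c hc => hall_of_many hτ hpτ IH _ hc
  obtain ⟨c₀, hc₀⟩ : ∃ c, good c := by
    by_contra hne
    push Not at hne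
    have : p * ∑ c, t c ≤ Nat.card (piClasses {r} G) * m := by
      rw [Finset.mul_sum, Nat.card_eq_fintype_card, ← Finset.card_univ, ← smul_eq_mul,
        ← Finset.sum_const]
      exact Finset.sum_le_sum fun c _ => not_lt.mp (hne c)
    have := Nat.mul_le_mul_left p hsum
    have := Nat.mul_le_mul_right m hkr
    omega
  obtain ⟨H, -, hn, hH⟩ := hgood c₀ hc₀
  have hf : r * f ≤ Nat.card (R : Subgroup G) := by
    rw [hfdef, ← Fintype.card_subtype, ← Nat.card_eq_fintype_card]
    exact card_good_le hσ hrσ hn hH hno R good hgood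
  -- weighted count
  have hcount : ∀ a b : ℕ, (∀ c, a * t c ≤ b * m + if good c then (p - 1) * m else 0) →
      a * Nat.card (piClasses σ G) ≤ m * (b * Nat.card (piClasses {r} G) + (p - 1) * f) := by
    intro a b hab
    refine (Nat.mul_le_mul_left a hsum).trans ?_
    rw [Finset.mul_sum]
    refine (Finset.sum_le_sum fun c _ => hab c).trans_eq ?_
    rw [Finset.sum_add_distrib, ← Finset.sum_filter, Finset.sum_const, Finset.sum_const,
      smul_eq_mul, smul_eq_mul, Finset.card_univ, ← Nat.card_eq_fintype_card, ← hfdef]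
    ring
  have hgen : p * Nat.card (piClasses σ G) ≤
      m * (1 * Nat.card (piClasses {r} G) + (p - 1) * f) := hcount p 1 fun c => by
    split_ifs with hc
    · calc p * t c ≤ p * m := Nat.mul_le_mul_left _ (htm c)
        _ = 1 * m + (p - 1) * m := by rw [← Nat.add_mul, show 1 + (p - 1) = p by omega]
    · rw [add_zero, one_mul]
      exact not_lt.mp hc
  obtain ⟨e, he⟩ : ∃ e, p = e + 2 := ⟨p - 2, by omega⟩
  obtain ⟨d, hd⟩ : ∃ d, r = p + 1 + d := ⟨r - p - 1, by omega⟩
  have hp1 : p - 1 = e + 1 := by omega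
  rw [hp1] at hgen hcount
  by_cases hRab : IsMulCommutative (R : Subgroup G)
  swap
  · -- non-abelian Sylow subgroup
    have h1 := cube_mul_card_conjClasses_le (H := (R : Subgroup G)) hr.out.one_le
      (fun q hq hd' => ((Nat.prime_dvd_prime_iff_eq hq hr.out).mp (hq.dvd_of_dvd_pow
        (R.card_eq_multiplicity ▸ hd'))).ge) hRab
    have h2 := Nat.mul_le_mul_left (r ^ 3) (card_piClasses_le_conjClasses R)
    have h3 : r * Nat.card (piClasses {r} G) ≤ 2 * Nat.card (R : Subgroup G) := by
      refine Nat.le_of_mul_le_mul_left ?_ (pow_pos hr.out.pos 2)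
      calc r ^ 2 * (r * Nat.card (piClasses {r} G)) = r ^ 3 * Nat.card (piClasses {r} G) := by
            ring
        _ ≤ (r ^ 2 + r - 1) * Nat.card (R : Subgroup G) := h2.trans h1
        _ ≤ 2 * r ^ 2 * Nat.card (R : Subgroup G) := Nat.mul_le_mul_right _ (by
            have := Nat.le_self_pow two_ne_zero r; omega)
        _ = _ := by ring
    have h4 : r * (1 * Nat.card (piClasses {r} G) + (e + 1) * f) ≤
        r * Nat.card (R : Subgroup G) := by
      subst he hd
      nlinarith [Nat.mul_le_mul_left (e + 1) hf]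
    have h5 := Nat.mul_le_mul_left m (Nat.le_of_mul_le_mul_left h4 hr.out.pos)
    rw [mul_comm m (Nat.card (R : Subgroup G))] at h5
    omega
  by_cases hcent : ∀ (P : Sylow r G), ∀ v ∈ normalizer ((P : Subgroup G) : Set G),
      (∀ q : ℕ, q.Prime → q ∣ orderOf v → q ∈ τ) → v ∈ centralizer ((P : Subgroup G) : Set G)
  swap
  · push Not at hcent
    obtain ⟨P, v, hv, hvτ, hvC⟩ := hcent
    have h1 := mul_card_piClasses_le_of_elem P hv hvC (by omega : 1 ≤ p)
      fun q hq hd' => hpτ q (hvτ q hq hd')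
    rw [P.card_eq_multiplicity, ← R.card_eq_multiplicity] at h1
    have h4 : r * p * (1 * Nat.card (piClasses {r} G) + (e + 1) * f) ≤
        r * p * Nat.card (R : Subgroup G) := by
      subst he hd
      rw [show (e + 2 + 1 + d) + (e + 2) - 1 = (e + 2 + 1 + d) + (e + 1) by omega] at h1
      nlinarith [Nat.mul_le_mul_left ((e + 1) * (e + 2)) hf,
        Nat.zero_le (d * (e + 1) * Nat.card (R : Subgroup G))]
    have h5 := Nat.mul_le_mul_left m
      (Nat.le_of_mul_le_mul_left h4 (Nat.mul_pos hr.out.pos (by omega)))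
    rw [mul_comm m (Nat.card (R : Subgroup G))] at h5
    omega
  by_cases hN : normalizer ((R : Subgroup G) : Set G) ≤ centralizer ((R : Subgroup G) : Set G)
  swap
  · obtain ⟨g, hg, hgC⟩ := SetLike.not_le_iff_exists.mp hN
    have h1 := card_piClasses_le_of_normalizer R hg hgC
    have h2 : 2 * p * Nat.card (piClasses σ G) ≤
        m * (2 * Nat.card (piClasses {r} G) + (e + 1) * f) := hcount (2 * p) 2 fun c => by
      have hb := card_term_le hσ hrσ hp hpσ IH hno R hRab hcent c
      split_ifs with hc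
      · calc 2 * p * t c ≤ (p + 1) * m := hb
          _ = 2 * m + (e + 1) * m := by rw [← Nat.add_mul]; congr 1; omega
      · calc 2 * p * t c = 2 * (p * t c) := by ring
          _ ≤ 2 * m := Nat.mul_le_mul_left _ (not_lt.mp hc)
          _ = 2 * m + 0 := (add_zero _).symm
    have h4 : r * (2 * Nat.card (piClasses {r} G) + (e + 1) * f) ≤
        r * (2 * Nat.card (R : Subgroup G)) := by
      subst he hd
      nlinarith [Nat.mul_le_mul_left (e + 1) hf]
    have h5 := Nat.mul_le_mul_left m (Nat.le_of_mul_le_mul_left h4 hr.out.pos)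
    nlinarith
  -- normal `r`-complement
  have hK := CfsgLib.Transfer.hasNormalPComplement_of_normalizer_le_centralizer R hN
  set K := Cfsg.pResidual r G with hKdef
  haveI : K.Normal := CfsgLib.Transfer.pResidual_normal
  have hHK : ∀ g : G, H.map (MulAut.conj g).toMonoidHom ≤ K := by
    rintro g _ ⟨y, hy, rfl⟩
    refine ‹K.Normal›.conj_mem y ?_ g
    refine CfsgLib.Transfer.mem_pResidual_of_coprime ((hr.out.coprime_iff_not_dvd.mpr ?_).symm)
    intro hd'
    exact Finset.ne_of_mem_erase (mem_of_dvd_piPart hτ hr.out (hH ▸ hd'.trans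
      ((Subgroup.orderOf_mk y hy).symm ▸ orderOf_dvd_natCard (⟨y, hy⟩ : H)))) rfl
  have hHK1 : H ≤ K := fun y hy => hHK 1 ⟨y, hy, by simp⟩
  set N := normalizer (H : Set G) with hNdef
  have htop : N ⊔ K = ⊤ := by
    refine eq_top_iff.mpr fun g _ => ?_
    haveI := hn
    have hn' : Group.IsNilpotent (H.map (MulAut.conj g).toMonoidHom) :=
      Group.nilpotent_of_mulEquiv (H.equivMapOfInjective _ (MulAut.conj g).injective)
    obtain ⟨c, hc, hcH⟩ := CfsgLib.Transfer.exists_conj_nilpotent_hall hHK1 (hHK g) hn hn'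
      (Nat.card_congr (H.equivMapOfInjective _ (MulAut.conj g).injective).toEquiv)
      ((coprime_index_of_card_eq hτ hH).coprime_dvd_right
        (Subgroup.relIndex_dvd_index_of_le hHK1))
    have hcg : c * g ∈ N := by
      rw [hNdef, CfsgLib.Coprime.mem_normalizer_iff_conj_smul, map_mul, mul_smul]
      exact hcH
    have := (N ⊔ K).mul_mem ((N ⊔ K).inv_mem (Subgroup.mem_sup_right hc))
      (Subgroup.mem_sup_left hcg)
    simpa using this
  have hRN : Nat.card (R : Subgroup G) ∣ Nat.card N := by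
    have h1 := Subgroup.relIndex_sup_right N K
    rw [htop, Subgroup.relIndex_top_right] at h1
    rw [← (CfsgLib.Transfer.isComplement'_pResidual hK R).symm.index_eq_card, ← hKdef, h1]
    exact Subgroup.relIndex_dvd_card K N
  obtain ⟨S₀⟩ : Nonempty (Sylow r N) := inferInstance
  set S := (S₀ : Subgroup N).map N.subtype with hSdef
  have hScard : Nat.card S = r ^ (Nat.card G).factorization r := by
    rw [hSdef, ← Nat.card_congr ((S₀ : Subgroup N).equivMapOfInjective _
      N.subtype_injective).toEquiv, S₀.card_eq_multiplicity]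
    refine congrArg (r ^ ·) (le_antisymm ?_ ?_)
    · exact (Nat.factorization_le_iff_dvd Nat.card_pos.ne' Nat.card_pos.ne').mpr
        (Subgroup.card_subgroup_dvd_card N) r
    · rw [R.card_eq_multiplicity] at hRN
      exact (hr.out.pow_dvd_iff_le_factorization Nat.card_pos.ne').mp hRN
  let T : Sylow r G := Sylow.ofCard S hScard
  have hTN : (T : Subgroup G) ≤ normalizer (H : Set G) := Subgroup.map_subtype_le _
  have hTab : IsMulCommutative (T : Subgroup G) :=
    ⟨⟨fun a b => (R.equiv T).symm.injective (by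
      rw [map_mul, map_mul]; exact hRab.is_comm.comm _ _)⟩⟩
  have hle := mul_card_piClasses_le_of_complement hσ hrσ hK T hTab hn hH hTN
    fun hc => hno (hall_of_centralizing hσ hrσ T hn hH hc)
  rw [hmσ] at hle
  have := Nat.mul_le_mul_right (Nat.card (piClasses σ G)) hrp.le
  omega

end Step

/-- Many classes of σ-elements give a nilpotent Hall σ-subgroup. -/
theorem hallStep (hp : 2 ≤ p) : ∀ σ : Finset ℕ, (∀ q ∈ σ, q.Prime) → (∀ q ∈ σ, p ≤ q) →
    HallStep.{u} p σ := by
  intro σ
  induction σ using Finset.strongInduction with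
  | H σ ih =>
    intro hσ hpσ X _ _ h
    rcases σ.eq_empty_or_nonempty with rfl | hne
    · exact ⟨⊥, inferInstance, by rw [piPart, Finset.prod_empty, Subgroup.card_bot]⟩
    set r := σ.max' hne with hrdef
    have hrσ : r ∈ σ := σ.max'_mem hne
    haveI : Fact r.Prime := ⟨hσ r hrσ⟩
    rcases (σ.erase r).eq_empty_or_nonempty with he | ⟨s, hs⟩
    · obtain ⟨R⟩ : Nonempty (Sylow r X) := inferInstance
      exact ⟨R, R.2.isNilpotent, by
        rw [card_sylow_mul (R := R) hrσ, he, piPart, Finset.prod_empty, mul_one]⟩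
    have hsσ := Finset.mem_of_mem_erase hs
    exact hallStep_of_erase hσ hrσ hp hpσ
      (lt_of_le_of_lt (hpσ s hsσ)
        (lt_of_le_of_ne (σ.le_max' s hsσ) (Finset.ne_of_mem_erase hs)))
      (ih _ (Finset.erase_ssubset hrσ) (fun q hq => hσ q (Finset.mem_of_mem_erase hq))
        fun q hq => hpσ q (Finset.mem_of_mem_erase hq)) h

end CfsgLib.PiClasses
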