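import Cfsg.Agent.Lib.PiClasses.Basic

/-!
# Sylow and Hall bookkeeping for the π-class count
-/

set_option autoImplicit false
set_option linter.unusedSectionVars false
set_option linter.style.haveILetI false

universe u

namespace CfsgLib.PiClasses

open Subgroup CfsgLib.PGroups
open scoped Pointwise

variable {G : Type u} [Group G] [Finite G] {σ : Finset ℕ}

theorem mul_piPart_le_of_ne (hσ : ∀ q ∈ σ, q.Prime) {p : ℕ} (hp : ∀ q ∈ σ, p ≤ q)
    (X : Subgroup G) (hne : piPart σ (Nat.card X) ≠ piPart σ (Nat.card G)) :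
    p * piPart σ (Nat.card X) ≤ piPart σ (Nat.card G) :=
  mul_piPart_le hσ hp Nat.card_pos.ne' (Subgroup.card_subgroup_dvd_card _) hne

/-- The product of two commuting nilpotent subgroups of coprime order. -/
theorem exists_nilpotent_prod {A B : Subgroup G} (hA : Group.IsNilpotent A)
    (hB : Group.IsNilpotent B) (hcomm : B ≤ centralizer (A : Set G))
    (hcop : (Nat.card A).Coprime (Nat.card B)) :
    ∃ K : Subgroup G, Group.IsNilpotent K ∧ Nat.card K = Nat.card A * Nat.card B := by
  haveI := hA
  haveI := hB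
  let φ : A × B →* G := MonoidHom.noncommCoprod A.subtype B.subtype fun a b =>
    (mem_centralizer_iff.mp (hcomm b.2) a a.2)
  have hinj : Function.Injective φ := by
    rw [injective_iff_map_eq_one]
    rintro ⟨a, b⟩ h
    have h' : (a : G) * b = 1 := h
    have hmem : (a : G) ∈ A ⊓ B := by
      refine ⟨a.2, ?_⟩
      rw [eq_inv_of_mul_eq_one_left h']
      exact B.inv_mem b.2
    rw [Subgroup.inf_eq_bot_of_coprime hcop, Subgroup.mem_bot] at hmem
    rw [hmem, one_mul] at h'
    exact Prod.ext (Subtype.ext hmem) (Subtype.ext h')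
  refine ⟨φ.range, Group.nilpotent_of_surjective φ.rangeRestrict φ.rangeRestrict_surjective, ?_⟩
  rw [← Nat.card_congr (MonoidHom.ofInjective hinj).toEquiv, Nat.card_prod]

theorem exists_isConj_of_piClasses {r : ℕ} [Fact r.Prime] (P : Sylow r G) (c : piClasses {r} G) :
    ∃ x ∈ (P : Subgroup G), IsConj x c.1.out := by
  obtain ⟨x, hx⟩ := sylowClass_surjective P c
  exact ⟨x, x.2, ConjClasses.mk_eq_mk_iff_isConj.mp
    ((congrArg Subtype.val hx).trans (Quotient.out_eq c.1).symm)⟩

theorem isPGroup_zpowers_out {r : ℕ} [Fact r.Prime] (P : Sylow r G) (c : piClasses {r} G) :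
    IsPGroup r (zpowers c.1.out) := by
  obtain ⟨x, hx, hxc⟩ := exists_isConj_of_piClasses P c
  obtain ⟨g, hg⟩ := isConj_iff.mp hxc
  obtain ⟨k, hk⟩ := IsPGroup.iff_orderOf.mp P.2 ⟨x, hx⟩
  rw [Subgroup.orderOf_mk] at hk
  refine IsPGroup.of_card (n := k) ?_
  rw [Nat.card_zpowers, ← hg, show g * x * g⁻¹ = MulAut.conj g x from rfl, MulEquiv.orderOf_eq, hk]

theorem map_centralizer_singleton (g x : G) :
    (centralizer ({x} : Set G)).map (MulAut.conj g).toMonoidHom =
      centralizer ({g * x * g⁻¹} : Set G) := by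
  ext y
  rw [Subgroup.mem_map, mem_centralizer_singleton_iff]
  constructor
  · rintro ⟨z, hz, rfl⟩
    rw [mem_centralizer_singleton_iff] at hz
    simp only [MulEquiv.toMonoidHom_eq_coe, MonoidHom.coe_coe, MulAut.conj_apply]
    calc g * z * g⁻¹ * (g * x * g⁻¹) = g * (z * x) * g⁻¹ := by group
      _ = g * (x * z) * g⁻¹ := by rw [hz]
      _ = _ := by group
  · intro hy
    refine ⟨g⁻¹ * y * g, mem_centralizer_singleton_iff.mpr ?_, by
      simp only [MulEquiv.toMonoidHom_eq_coe, MonoidHom.coe_coe, MulAut.conj_apply]; group⟩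
    calc g⁻¹ * y * g * x = g⁻¹ * (y * (g * x * g⁻¹)) * g := by group
      _ = g⁻¹ * ((g * x * g⁻¹) * y) * g := by rw [hy]
      _ = _ := by group

theorem card_piClasses_centralizer_isConj {x y : G} (h : IsConj x y) :
    Nat.card (piClasses σ (centralizer ({y} : Set G))) =
      Nat.card (piClasses σ (centralizer ({x} : Set G))) := by
  obtain ⟨g, rfl⟩ := isConj_iff.mp h
  exact (card_piClasses_congr (((centralizer ({x} : Set G)).equivMapOfInjective
    (MulAut.conj g).toMonoidHom (MulAut.conj g).injective).trans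
      (MulEquiv.subgroupCongr (map_centralizer_singleton g x)))).symm

/-- A Hall subgroup of `X` of full order, seen inside `G`. -/
theorem card_map_hall {X : Subgroup G} {H : Subgroup X}
    (hH : Nat.card H = piPart σ (Nat.card X))
    (hfull : piPart σ (Nat.card X) = piPart σ (Nat.card G)) :
    Nat.card (H.map X.subtype) = piPart σ (Nat.card G) := by
  rw [← Nat.card_congr (H.equivMapOfInjective X.subtype X.subtype_injective).toEquiv, hH, hfull]

theorem isNilpotent_map {X : Subgroup G} {H : Subgroup X} (hH : Group.IsNilpotent H) :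
    Group.IsNilpotent (H.map X.subtype) :=
  haveI := hH
  Group.nilpotent_of_mulEquiv (H.equivMapOfInjective X.subtype X.subtype_injective)

theorem card_subgroupOf_hall (hσ : ∀ q ∈ σ, q.Prime) {H X : Subgroup G} (hHX : H ≤ X)
    (hH : Nat.card H = piPart σ (Nat.card G)) :
    Nat.card (H.subgroupOf X) = piPart σ (Nat.card X) := by
  rw [Nat.card_congr (Subgroup.subgroupOfEquivOfLe hHX).toEquiv, hH,
    piPart_self_of_hall hσ hH hHX]

theorem isNilpotent_subgroupOf {H X : Subgroup G} (hHX : H ≤ X) (hH : Group.IsNilpotent H) :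
    Group.IsNilpotent (H.subgroupOf X) :=
  haveI := hH
  Group.nilpotent_of_mulEquiv (Subgroup.subgroupOfEquivOfLe hHX).symm

end CfsgLib.PiClasses
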